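import Groth.Agent.Lib.LinSub.ConicEq

/-!
# Quotients of the structure sheaf with the Hilbert polynomial of a hypersurface
-/

set_option autoImplicit false
set_option linter.style.haveILetI false
set_option linter.unusedSectionVars false
set_option backward.isDefEq.respectTransparency false

universe u

open CategoryTheory CategoryTheory.Limits AlgebraicGeometry TopologicalSpace Opposite
open Groth.Agent.Lib Groth.Agent.Lib.TensorMod.Basic Groth.Agent.Lib.ProjCoh.Coherent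
open Groth.Agent.Lib.ProjKoszul Groth.Agent.Lib.ProjKoszul.Regularity Groth.Agent.Lib.Curves.LES
open Groth.Agent.Lib.ProjCI

noncomputable section

namespace Groth.Agent.Lib.LinSub

variable {k : Type u} [Field k] {n : ℕ}

local notation "ℙ" => CohB1.ProjSpace n k
local notation "O_ℙ" => Coh.structureModule (CohB1.ProjSpace n k)

theorem hp_nat (j m : ℕ) : hp (j + 1) (m : ℤ) = ((m + j).choose j : ℕ) := by
  simp only [hp]
  rw [← Nat.cast_add, Ring.choose_natCast]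

theorem hp_neg_one (j : ℕ) : hp (j + 2) (-1) = 0 := by
  simp only [hp]
  rw [show (-1 : ℤ) + ((j + 1 : ℕ) : ℤ) = (j : ℕ) by push_cast; ring, Ring.choose_natCast,
    Nat.choose_eq_zero_of_lt (Nat.lt_succ_self j), Nat.cast_zero]

theorem hp_lt (j : ℕ) {t : ℤ} (ht : 0 ≤ t) : hp (j + 2) (t - 1) < hp (j + 2) t := by
  lift t to ℕ using ht
  have h := hp_sub (j + 1) (t : ℤ)
  have h0 : 0 < hp (j + 1) (t : ℤ) := by
    rw [hp_nat]; exact_mod_cast Nat.choose_pos (Nat.le_add_left j t)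
  linarith

/-- A plane and one more form, killed in a quotient. -/
theorem le_ci_add (hn : 0 < n) {c : ℕ} (hc : c ≤ n + 1) (ℓ : Fin c → LefPen.Form n k 1) (hℓ : LinearIndependent k ℓ)
    {e : ℕ} (Q : LefPen.Form n k e) (hQn : Q.1 ∉ Cone.full (a := fun _ : Fin c => 1) ℓ)
    {F : (ℙ).Modules} [Coh.IsQCoh F] (hF : Coh.IsCoh F) (q : O_ℙ ⟶ F) [Epi q] (hℓk : ∀ l, ℓ l ∈ killed q 1)
    (hQ : Q ∈ killed q e) :
    ∃ t₀ : ℤ, ∀ t, t₀ ≤ t → χt F t ≤ hp (n + 1 - c) t - hp (n + 1 - c) (t - e) := by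
  let P : Fin (c + 1) → (Σ' a : ℕ, LefPen.Form n k a) :=
    Fin.lastCases ⟨e, Q⟩ fun l => ⟨1, ℓ l⟩
  let G : ∀ l, LefPen.Form n k (P l).1 := fun l => (P l).2
  have hP : ∀ l, P (Fin.castSucc l) = ⟨1, ℓ l⟩ := fun l => Fin.lastCases_castSucc l
  have hPl : P (Fin.last _) = ⟨e, Q⟩ := Fin.lastCases_last
  have hval : ∀ l, (G (Fin.castSucc l)).1 = (ℓ l).1 := fun l =>
    congrArg (fun s : Σ' a : ℕ, LefPen.Form n k a => s.2.1) (hP l)
  have hvalQ : (G (Fin.last _)).1 = Q.1 :=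
    congrArg (fun s : Σ' a : ℕ, LefPen.Form n k a => s.2.1) hPl
  have hpre : ∀ j, j ≤ c → Cone.pre G j = Cone.pre (a := fun _ : Fin c => 1) ℓ j := fun j hj => by
    rw [Cone.pre, Cone.pre]
    congr 1
    ext f
    constructor
    · rintro ⟨l, hl, rfl⟩
      exact ⟨⟨l.1, by omega⟩, hl, hval ⟨l.1, by omega⟩⟩
    · rintro ⟨l, hl, rfl⟩
      exact ⟨Fin.castSucc l, hl, (hval l).symm⟩
  have hprime : (Cone.full (a := fun _ : Fin c => 1) ℓ).IsPrime := by
    have := (LinForms.isPrime_and_notMem ℓ hℓ Set.univ).1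
    rwa [Set.image_univ] at this
  have hreg : Cone.Reg G := by
    intro j hj i x hx hmem
    rcases Nat.lt_or_ge j c with hlt | hge
    · rw [hpre j hlt.le] at hmem ⊢
      rw [show (⟨j, hj⟩ : Fin (c + 1)) = Fin.castSucc ⟨j, hlt⟩ from rfl, hval] at hmem
      exact LinForms.reg ℓ hℓ j hlt i x hx hmem
    · obtain rfl : j = c := by omega
      rw [hpre j le_rfl, Cone.pre_self] at hmem ⊢
      rw [show (⟨j, hj⟩ : Fin (j + 1)) = Fin.last _ from rfl, hvalQ] at hmem
      exact (hprime.mem_or_mem hmem).resolve_left hQn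
  have hfull : Cone.full G = Cone.pre (a := fun _ : Fin c => 1) ℓ c ⊔ Ideal.span {Q.1} := by
    rw [← Cone.pre_self G, Cone.pre_succ G (Nat.lt_succ_self _), hpre _ le_rfl]
    congr 2
    rw [show (⟨c, Nat.lt_succ_self _⟩ : Fin (c + 1)) = Fin.last _ from rfl, hvalQ]
  let J := LefPen.ciIdeal G
  have hJ : ∀ t, χt (_root_.ClSub.quotMod J) t = hp (n + 1 - c) t - hp (n + 1 - c) (t - e) := fun t => by
    obtain ⟨e₀, -⟩ := Ident.exists_iso (G := G) hreg t
    let E : CohB1.tensorMod (_root_.ClSub.quotMod J) (tw n k t) ≅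
        (Coh.push J.subschemeι).obj ((Scheme.Modules.pullback J.subschemeι).obj (tw n k t)) :=
      comm _ _ ≪≫ (Modules.ProjFormula.projIso J.subschemeι (Modules.DualBasis.hasDBases_of_isFinLocFree
        (TensorMod.LocFree.of_rank (TensorMod.LocFree.of_isInvertible (isInvertible_tw (n := n) (R := k) t))))).app
        (Coh.structureModule J.subscheme) ≪≫ (Coh.push J.subschemeι).mapIso (rightUnit _)
    refine (euler_congr (E ≪≫ e₀ ≪≫ eqToIso (Cohom.T_congr hfull t))).trans ?_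
    obtain ⟨f, w, hS⟩ := Tilde.exists_ses (I := Cone.pre (a := fun _ : Fin c => 1) ℓ c) (g := Q.1) (d := e)
      (Cone.pre_hom _ _) (Cone.form_isHomogeneous _)
      (fun i x _ hx => by
        rw [Cone.pre_self] at hx ⊢
        exact (hprime.mem_or_mem hx).resolve_left hQn) t
    obtain ⟨h2, e2⟩ := euler_T hn hc ℓ (LinForms.reg ℓ hℓ) c le_rfl t
    obtain ⟨h1, e1⟩ := euler_T hn hc ℓ (LinForms.reg ℓ hℓ) c le_rfl (t - (e : ℤ))
    let σ := Tilde.shiftIso (k := k) (Cone.pre (a := fun _ : Fin c => 1) ℓ c) e t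
    have h1' := CohBasics.Closure.isCoh_of_iso σ.symm h1
    have h3 := CohBasics.Closure.isCoh_of_iso
      ((cokernelIsCokernel f).coconePointUniqueUpToIso hS.gIsCokernel)
      (CohBasics.Closure.isCoh_cokernel f h1'.1 h2)
    have e' := euler_add hS h1' h2 h3
    simp only at e'
    rw [euler_congr σ, e2, e1] at e'
    linarith
  have hk : ∀ l, G l ∈ killed q (P l).1 := by
    have key : ∀ s : Σ' a : ℕ, LefPen.Form n k a, (s = ⟨e, Q⟩ ∨ ∃ l, s = ⟨1, ℓ l⟩) → s.2 ∈ killed q s.1 := by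
      rintro s (rfl | ⟨l, rfl⟩)
      exacts [hQ, hℓk l]
    refine fun l => key (P l) ?_
    induction l using Fin.lastCases with
    | last => exact Or.inl hPl
    | cast l => exact Or.inr ⟨l, hP l⟩
  obtain ⟨p, -, hp'⟩ := exists_factor q G hk
  obtain ⟨t₀, ht₀⟩ := exists_χt_le p (coh_quot _) hF
  exact ⟨t₀, fun t ht => (ht₀ t ht).trans_eq (hJ t)⟩

variable [Infinite k]

/-- More forms on the plane than sections on the quotient: one of them is killed. -/
theorem exists_killed (hn : 0 < n) {c : ℕ} (hc : c ≤ n + 1) (ℓ : Fin c → LefPen.Form n k 1)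
    (hℓ : LinearIndependent k ℓ) {F : (ℙ).Modules} (q : O_ℙ ⟶ F) (m : ℕ)
    (hlt : (Module.finrank k (LinearMap.range (mapK k (tmap q (𝟙 (tw n k (m : ℤ)))) 0)) : ℤ) < hp (n + 1 - c) m) :
    ∃ Q : LefPen.Form n k m, Q ∈ killed q m ∧ Q.1 ∉ Cone.full (a := fun _ : Fin c => 1) ℓ := by
  let J := LefPen.ciIdeal (a := fun _ : Fin c => 1) ℓ
  haveI := ClSub.Quot.epi_toSubscheme J
  have hJ := χt_ciIdeal hn hc ℓ hℓ
  obtain ⟨hRJ, hsJ⟩ := reg_of_hp _ _ (coh_quot J) (_root_.ClSub.toSubscheme J) inferInstance hJ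
  let fq := mapK k (tmap q (𝟙 (tw n k (m : ℤ)))) 0
  let fJ := mapK k (tmap (_root_.ClSub.toSubscheme J) (𝟙 (tw n k (m : ℤ)))) 0
  haveI := ProjCoh.Coherent.finite_HH (CohB1.tensorMod O_ℙ (tw n k (m : ℤ)))
    (isCoh_tensorMod coh_O (isCoh_tw _)) 0
  have hne : ¬ LinearMap.ker fq ≤ LinearMap.ker fJ := fun hle => by
    have h1 := Submodule.finrank_mono hle
    have v2 : (Module.finrank k (Coh.HH ℙ (CohB1.tensorMod (_root_.ClSub.quotMod J) (tw n k (m : ℤ))) 0) : ℤ) =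
        hp (n + 1 - c) m :=
      (χt_eq_h0 hRJ (show (0 : ℤ) - 1 ≤ (m : ℤ) by omega)).symm.trans (hJ _)
    have b6 : (Module.finrank k (LinearMap.range fJ) : ℤ) = hp (n + 1 - c) m := by
      rw [LinearMap.range_eq_top.2 (hsJ _ (by omega)), finrank_top]; exact v2
    have eq' := fq.finrank_range_add_finrank_ker
    have eJ' := fJ.finrank_range_add_finrank_ker
    have hlt' : (Module.finrank k (LinearMap.range fq) : ℤ) < hp (n + 1 - c) m := hlt
    omega
  obtain ⟨w, hw, hw'⟩ := SetLike.not_le_iff_exists.1 hne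
  obtain ⟨Q, hQ⟩ := exists_form hn m w
  rw [LinearMap.mem_ker] at hw hw'
  refine ⟨Q, (hQ F q).1 hw, fun hfull => hw' ((hQ _ _).2 fun i => ?_)⟩
  exact (Dict.app_dehom_eq_zero_iff Q i).2 ⟨0, by simpa using hfull⟩

/-- Multiplication by a linear form avoiding the associated points, naturally. -/
theorem exists_hyperplane_nat {F : (ℙ).Modules} (hF : Coh.IsCoh F) :
    ∃ Φ : tensorBy (tw n k (-1)) ⟶ 𝟭 (ℙ).Modules, Mono (Φ.app F) := by
  haveI : IsProper (CohB1.ProjSpace n k ↘ Spec (CommRingCat.of k)) := ProjSpace.Basic.isProper_toSpec n k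
  haveI := Curves.GlobalSections.isNoetherian_of_proper k (CohB1.ProjSpace n k)
  have hF₁ : Coh.IsCoh (CohB1.tensorMod F (tw n k (-1))) := isCoh_tensorMod hF (isCoh_tw _)
  obtain ⟨s, hs⟩ := UnifReg.Hyperplane.exists_section (n := n) (k := k)
    (UnifReg.Hyperplane.finite_assPoints hF₁)
  exact ⟨Functor.whiskerLeft (tensorBy (tw n k (-1))) (UnifReg.Hyperplane.mulS s) ≫
      (cancelNat (twCancel (-1) 1 (by norm_num))).hom,
    mono_comp' (UnifReg.Hyperplane.mono_mulS s hF₁.1 fun x hx => hs x hx) (IsIso.mono_of_iso _)⟩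

/-- The slice kills one more linear form. -/
theorem exists_new_form (hn : 0 < n) {F : (ℙ).Modules} (hF0 : ¬ IsZero F) (q : O_ℙ ⟶ F) [Epi q]
    (Φ : tensorBy (tw n k (-1)) ⟶ 𝟭 (ℙ).Modules) [Mono (Φ.app F)] :
    ∃ h : LefPen.Form n k 1, h ∈ killed (q ≫ cokernel.π (Φ.app F)) 1 ∧ h ∉ killed q 1 := by
  let A : (ℙ).Modules := CohB1.tensorMod O_ℙ (tw n k (-1))
  let α : A ⟶ O_ℙ := Φ.app O_ℙ
  let u : A ⟶ CohB1.tensorMod F (tw n k (-1)) := tmap q (𝟙 _)
  let L := tw n k ((1 : ℕ) : ℤ)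
  have hnat : α ≫ q = u ≫ Φ.app F := (Φ.naturality q).symm
  have hz : (α ≫ q) ≫ cokernel.π (Φ.app F) = 0 := by
    rw [hnat, Category.assoc, cokernel.condition, comp_zero]
  by_contra hc
  push Not at hc
  let ε : CohB1.tensorMod A L ≅ O_ℙ :=
    TensorMod.Basic.assoc O_ℙ (tw n k (-1)) L ≪≫
      tensorIso (Iso.refl _) (twTensor (-1) ((1 : ℕ) : ℤ) ≪≫ eqToIso (congrArg (tw n k) (by norm_num)) ≪≫ twZero) ≪≫
      leftUnit _
  let τ : CohB1.tensorMod A L ⟶ CohB1.tensorMod F L := tmap (α ≫ q) (𝟙 L)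
  have hzero : ∀ w, mapK k τ 0 w = 0 := fun w => by
    obtain ⟨h, hh⟩ := exists_form hn 1 (mapK k (tmap α (𝟙 L)) 0 w)
    have e1 : ∀ {G : (ℙ).Modules} (g : O_ℙ ⟶ G),
        mapK k (tmap (α ≫ g) (𝟙 L)) 0 w = mapK k (tmap g (𝟙 L)) 0 (mapK k (tmap α (𝟙 L)) 0 w) := fun {G} g => by
      rw [show tmap (α ≫ g) (𝟙 L) = tmap α (𝟙 L) ≫ tmap g (𝟙 L) by rw [← tmap_comp, Category.comp_id], mapK_comp]
      rfl
    refine (e1 q).trans ((hh F q).2 (hc h ((hh _ _).1 ((e1 _).symm.trans ?_))))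
    rw [← Category.assoc, hz]
    rw [show tmap (0 : A ⟶ cokernel (Φ.app F)) (𝟙 L) = 0 from (tensorBy L).map_zero _ _]
    exact (Curves.GlobalSections.h0Equiv _).injective ((h0Equiv_mapK (R := k) (0 : CohB1.tensorMod A L ⟶ CohB1.tensorMod (cokernel (Φ.app F)) L) w).trans (map_zero (Curves.GlobalSections.h0Equiv _)).symm)
  have hsec : ∀ s, (ε.inv ≫ τ).app ⊤ s = 0 := fun s => by
    have := hzero ((Curves.GlobalSections.h0Equiv _).symm (ε.inv.app ⊤ s))
    refine Eq.trans ?_ ((congrArg (Curves.GlobalSections.h0Equiv _) this).trans (map_zero _))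
    refine Eq.trans ?_ (h0Equiv_mapK (R := k) τ _).symm
    exact (congrArg (τ.app ⊤) (AddEquiv.apply_symm_apply _ _)).symm
  have h0 : ε.inv ≫ τ = 0 := Modules.Free.unitHom_ext ((hsec _).trans rfl)
  have h1 : τ = 0 := by
    rw [← Category.id_comp τ, ← ε.hom_inv_id, Category.assoc, h0, comp_zero]
  have h2 : tmap u (𝟙 L) ≫ tmap (Φ.app F) (𝟙 L) = 0 := by
    rw [← tmap_comp, Category.comp_id, ← hnat]; exact h1
  haveI : Epi u := (tensorBy (tw n k (-1))).map_epi q
  haveI : Epi (tmap u (𝟙 L)) := (tensorBy L).map_epi u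
  have h3 : tmap (Φ.app F) (𝟙 L) = 0 := by
    rw [← cancel_epi (tmap u (𝟙 L)), h2, comp_zero]
  have hS : (ShortComplex.mk (Φ.app F) (cokernel.π (Φ.app F)) (cokernel.condition _)).ShortExact :=
    ShortComplex.ShortExact.mk' (ShortComplex.exact_cokernel _) inferInstance inferInstance
  haveI : Mono (tmap (Φ.app F) (𝟙 L)) := (shortExact_tw hS _).mono_f
  exact hF0 (IsZero.of_iso (IsZero.of_mono_eq_zero _ h3)
    ((cancelNat (twCancel (-1) ((1 : ℕ) : ℤ) (by norm_num))).app F).symm)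

/-- Hilbert polynomial of a hypersurface of degree `d` in a plane. -/
theorem hyper_reg (hn : 0 < n) (d : ℕ) (hd : 1 ≤ d) : ∀ (j c : ℕ), c + j = n → ∀ (F : (ℙ).Modules),
    Coh.IsCoh F → ∀ (q : O_ℙ ⟶ F), Epi q → ∀ (ℓ : Fin c → LefPen.Form n k 1), LinearIndependent k ℓ →
      (∀ l, ℓ l ∈ killed q 1) → (∀ t, χt F t = hp (j + 1) t - hp (j + 1) (t - d)) →
      Regularity.Reg F ((d : ℤ) - 1) ∧
        (∀ t : ℤ, (d : ℤ) - 1 ≤ t → Function.Surjective (mapK k (tmap q (𝟙 (tw n k t))) 0)) ∧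
        (1 ≤ j → ∃ Q : LefPen.Form n k d, Q ∈ killed q d ∧ Q.1 ∉ Cone.full (a := fun _ : Fin c => 1) ℓ) := by
  intro j
  induction j with
  | zero =>
    intro c _ F hF q _ ℓ _ _ h
    have hz : IsZero F := isZero_of_χt hF fun t => by rw [h, hp_one_eq, hp_one_eq]; ring
    have hs : ∀ (t : ℤ) (i : ℕ), Subsingleton (Coh.HH ℙ (CohB1.tensorMod F (tw n k t)) i) := fun t i =>
      (Chase.isZero_cohFun_iff k).1 (Functor.map_isZero (Chase.cohFun k i)
        (Functor.map_isZero (tensorBy (tw n k t)) hz))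
    exact ⟨fun i _ => hs _ i, fun t _ y => ⟨0, (hs t 0).elim _ _⟩, fun h => absurd h (by omega)⟩
  | succ j ih =>
    intro c hc F hF q hq ℓ hℓ hℓk h
    haveI := hF.1
    haveI := hq
    have hF0 : ¬ IsZero F := fun hz => by
      have e := h ((d : ℤ) - 1)
      rw [show (d : ℤ) - 1 - d = -1 by ring, hp_neg_one, sub_zero] at e
      have h0 : χt F ((d : ℤ) - 1) = 0 := by
        have hs : ∀ i, Subsingleton (Coh.HH ℙ (CohB1.tensorMod F (tw n k ((d : ℤ) - 1))) i) := fun i =>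
          (Chase.isZero_cohFun_iff k).1 (Functor.map_isZero (Chase.cohFun k i)
            (Functor.map_isZero (tensorBy (tw n k _)) hz))
        refine (euler_eq_h0 _ fun i _ => hs i).trans ?_
        haveI := hs 0
        rw [Module.finrank_zero_of_subsingleton]; rfl
      rw [h0, show (d : ℤ) - 1 = ((d - 1 : ℕ) : ℤ) by omega, hp_nat] at e
      have := Nat.choose_pos (Nat.le_add_left (j + 1) (d - 1))
      omega
    obtain ⟨Φ, hΦ⟩ := exists_hyperplane_nat hF
    haveI := hΦ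
    let φ : CohB1.tensorMod F (tw n k (-1)) ⟶ F := Φ.app F
    haveI : Mono φ := hΦ
    have hF₁ : Coh.IsCoh (CohB1.tensorMod F (tw n k (-1))) := isCoh_tensorMod hF (isCoh_tw _)
    have hG : Coh.IsCoh (cokernel φ) := CohBasics.Closure.isCoh_cokernel φ hF₁.1 hF
    have hS : (ShortComplex.mk φ (cokernel.π φ) (cokernel.condition φ)).ShortExact :=
      ShortComplex.ShortExact.mk' (ShortComplex.exact_cokernel φ) hΦ inferInstance
    have hχG : ∀ t, χt (cokernel φ) t = hp (j + 1) t - hp (j + 1) (t - d) := fun t => by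
      have e := χt_add hS hF₁ hF hG t
      simp only at e
      rw [χt_twist F (-1) t, h, h] at e
      have a1 := hp_sub (j + 1) t
      have a2 := hp_sub (j + 1) (t - d)
      rw [show -1 + t = t - 1 by ring, show t - 1 - (d : ℤ) = t - d - 1 by ring] at e
      linarith
    obtain ⟨hnew, hnk, hnn⟩ := exists_new_form hn hF0 q Φ
    let ℓ' : Fin (c + 1) → LefPen.Form n k 1 := Fin.cons hnew ℓ
    have hℓ' : LinearIndependent k ℓ' := linearIndependent_fin_cons.2
      ⟨hℓ, fun hm => hnn ((Submodule.span_le.2 (by rintro _ ⟨l, rfl⟩; exact hℓk l)) hm)⟩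
    obtain ⟨hRG, hsG, -⟩ := ih (c + 1) (by omega) (cokernel φ) hG (q ≫ cokernel.π φ)
      (epi_comp' hq inferInstance) ℓ' hℓ' (fun l => by
        refine Fin.cases hnk (fun l i => ?_) l
        exact (congrArg ((cokernel.π φ).app (LefPen.chart n k i)) (hℓk l i)).trans (map_zero _)) hχG
    have hR : Regularity.Reg F ((d : ℤ) - 1) := reg_step hF q φ hRG hsG
    have hcj : n + 1 - c = j + 2 := by omega
    obtain ⟨d', rfl⟩ : ∃ d', d = d' + 1 := ⟨d - 1, by omega⟩
    rw [show ((d' + 1 : ℕ) : ℤ) - 1 = (d' : ℤ) by push_cast; ring] at hR ⊢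
    haveI := fun t : ℤ => ProjCoh.Coherent.finite_HH (CohB1.tensorMod F (tw n k t)) (isCoh_tensorMod hF (isCoh_tw t)) 0
    have hv : ∀ m : ℕ, d' ≤ m → (Module.finrank k (Coh.HH ℙ (CohB1.tensorMod F (tw n k (m : ℤ))) 0) : ℤ) =
        hp (j + 2) m - hp (j + 2) ((m : ℤ) - (d' + 1 : ℕ)) := fun m hm =>
      (χt_eq_h0 hR (by omega)).symm.trans (h _)
    have hs : Function.Surjective (mapK k (tmap q (𝟙 (tw n k (d' : ℤ)))) 0) := by
      rw [← LinearMap.range_eq_top]
      refine Submodule.eq_top_of_finrank_eq (le_antisymm (Submodule.finrank_le _) ?_)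
      by_contra hlt
      obtain ⟨Q, hQ, hQn⟩ := exists_killed hn (show c ≤ n + 1 by omega) ℓ hℓ q d' (by
        have := hv d' le_rfl
        rw [show (d' : ℤ) - ((d' + 1 : ℕ) : ℤ) = -1 by push_cast; ring, hp_neg_one, sub_zero] at this
        rw [hcj]
        omega)
      obtain ⟨t₀, ht₀⟩ := le_ci_add hn (show c ≤ n + 1 by omega) ℓ hℓ Q hQn hF q hℓk hQ
      have hle := ht₀ (max t₀ d') (le_max_left _ _)
      rw [hcj, h] at hle
      have hl := hp_lt j (t := max t₀ d' - d') (by have := le_max_right t₀ (d' : ℤ); omega)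
      rw [show max t₀ (d' : ℤ) - ((d' + 1 : ℕ) : ℤ) = max t₀ d' - d' - 1 by push_cast; ring] at hle
      linarith
    refine ⟨hR, fun t ht => surjective_of_le q hR hs ht, fun _ => ?_⟩
    refine exists_killed hn (show c ≤ n + 1 by omega) ℓ hℓ q (d' + 1) ?_
    have := hv (d' + 1) (Nat.le_succ _)
    rw [sub_self, hp_zero] at this
    have := Submodule.finrank_le (LinearMap.range (mapK k (tmap q (𝟙 (tw n k ((d' + 1 : ℕ) : ℤ)))) 0))
    rw [hcj]
    omega

end Groth.Agent.Lib.LinSub
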